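import Cfsg.Agent.Lib.OrthExtTwo.Main

/-!
The normaliser of a self-adjoint quadratic field of matrices is maximal in `Ω`, dimension at
least ten, odd characteristic.
Owner: helper94.
-/

set_option autoImplicit false
set_option linter.unusedSectionVars false

namespace Cfsg.Agent.Lib.OrthExtTwo

open Matrix Module Cfsg.Agent.Lib.Subspaces.Transvection Cfsg.Agent.Lib.Subspaces.OrthForm
  Cfsg.Agent.Lib.Subspaces.OmegaGL Cfsg.Agent.Lib.K41.ExtForm

theorem maximal {ι : Type} [Fintype ι] [DecidableEq ι] {F : Type*} [Field F] [Finite F]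
    {Q : (ι → F) → F} (hQ : Cfsg.Geo.IsNondegenerateQuadraticForm Q) (h2 : (2 : F) ≠ 0)
    (hn : 10 ≤ Fintype.card ι) (K : Subalgebra F (Matrix ι ι F))
    (hK : Cfsg.Geo.IsFieldSubalgebra 2 K)
    (hsa : Cfsg.Geo.IsSelfAdjointFor (QuadraticMap.polar Q) K) :
    Cfsg.Geo.IsMaximalIn (Cfsg.Geo.omegaGL Q)
      (Cfsg.Geo.subalgebraNormalizer K ⊓ Cfsg.Geo.omegaGL Q) := by
  classical
  haveI : Nonempty ι := Fintype.card_pos_iff.1 (by omega)
  letI : Field K := fieldOfSub hK
  letI hmod : Module K (ι → F) := subModule K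
  haveI : @IsScalarTower F K (ι → F) Algebra.toSMul hmod.toSMul inferInstance :=
    ⟨fun a k x => smul_mulVec a (k : Matrix ι ι F) x⟩
  haveI : Finite K := Finite.of_injective (fun x : K => (x : Matrix ι ι F)) Subtype.val_injective
  have hb := hQ.polar_bilinear
  let f : (ι → F) →ₗ[F] (ι → F) →ₗ[F] F := LinearMap.mk₂ F (QuadraticMap.polar Q) hb.add_left
    (fun c x v => hb.smul_left c x v) hb.add_right (fun c v x => hb.smul_right c v x)
  have hfsa : ∀ (c : K) (x y : ι → F), f (c • x) y = f x (c • y) := fun c x y => hsa _ c.2 x y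
  haveI : FiniteDimensional F K := Module.Finite.of_finite
  haveI : FiniteDimensional K (ι → F) := Module.Finite.of_finite
  let h : LinearMap.BilinForm K (ι → F) := LinearMap.mk₂ K (liftForm f)
    (liftForm_add_left f) (fun c x z => liftForm_smul_left f c x z) (liftForm_add_right f)
    (fun c x z => liftForm_smul_right hfsa c x z)
  let S : Setting F K ι :=
    { Q := Q
      hQ := hQ
      h := h
      symm := fun x y => trace_ext (F := F) fun a => by
        show Algebra.trace F K (a * liftForm f x y) = Algebra.trace F K (a * liftForm f y x)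
        rw [trace_liftForm, trace_liftForm]
        exact (hsa _ a.2 x y).trans (B_comm _ _)
      trace := fun x y => trace_liftForm_one f x y
      two := h2
      degree := hK.finrank_eq
      dim := by
        have h1 := finrank_mul_finrank F K (ι → F)
        have h3 : finrank F K = 2 := hK.finrank_eq
        rw [h3, finrank_fintype_fun_eq_card] at h1
        omega }
  have hsemi : ∀ g : GL ι F, g ∈ Cfsg.Geo.subalgebraNormalizer K → Semi K g := by
    intro g hg c
    obtain ⟨d, hdK, hd⟩ := semi_of_mem_normalizer hg c.2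
    exact ⟨⟨d, hdK⟩, hd⟩
  have hnorm : ∀ g : GL ι F, Semi K g → g ∈ Cfsg.Geo.subalgebraNormalizer K := by
    intro g hg
    refine mem_normalizer_of_semi K g fun c hc => ?_
    obtain ⟨d, hd⟩ := hg ⟨c, hc⟩
    exact ⟨d, d.2, hd⟩
  refine isMaximalIn_of inf_le_right ?_ fun M hHM hMS g hgM hgn => ?_
  · obtain ⟨g, hg, hns⟩ := S.exists_not_semi
    exact ⟨g, hg, fun h => hns (hsemi g h.1)⟩
  · refine S.omega_le_of_not_semi hMS (fun k hk hlin => hHM ⟨hnorm k fun c => ⟨c, hlin c⟩, hk⟩)
      hgM fun hs => hgn ⟨hnorm g hs, hMS hgM⟩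

end Cfsg.Agent.Lib.OrthExtTwo
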