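import Cfsg.Agent.Lib.OrthExtTwo.Lines
import Cfsg.Agent.Lib.Subspaces.OrthSingular

/-!
An overgroup in `Ω` of the linear isometries of the `K`-space with a non-semilinear element is `Ω`.
Owner: helper94.
-/

set_option autoImplicit false
set_option linter.unusedSectionVars false

namespace Cfsg.Agent.Lib.OrthExtTwo

open Matrix Module Cfsg.Agent.Lib.Subspaces.Transvection Cfsg.Agent.Lib.Subspaces.FormVec
  Cfsg.Agent.Lib.Subspaces.OrthForm Cfsg.Agent.Lib.Subspaces.OrthLines
  Cfsg.Agent.Lib.Subspaces.OmegaGL Cfsg.Agent.Lib.Subspaces.OrthSingular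

variable {ι : Type} [Fintype ι] [DecidableEq ι] {F K : Type*} [Field F] [Field K] [Algebra F K]
  [Module K (ι → F)] [IsScalarTower F K (ι → F)] [Finite F] [Finite K]

local notation "V" => (ι → F)

namespace Setting

variable (S : Setting F K ι)

/-- Two trace-zero scalars are proportional over `F`. -/
theorem exists_ratio (S : Setting F K ι) {x y : K} (hx : Algebra.trace F K x = 0)
    (hy : Algebra.trace F K y = 0) (hy0 : y ≠ 0) : ∃ c : F, x = c • y := by
  obtain ⟨θ, htr, hθ, hall, -⟩ := S.exists_theta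
  have key : ∀ z : K, Algebra.trace F K z = 0 → ∃ b : F, z = b • θ := by
    intro z hz
    obtain ⟨a, b, rfl⟩ := hall z
    rw [map_add, map_smul, map_smul, htr, smul_zero, add_zero, ← map_one (algebraMap F K),
      Algebra.trace_algebraMap, S.degree, two_nsmul, smul_eq_mul, ← two_mul, mul_one, mul_comm]
      at hz
    exact ⟨b, by rw [(mul_eq_zero.1 hz).resolve_left S.two, zero_smul, zero_add]⟩
  obtain ⟨b, rfl⟩ := key x hx
  obtain ⟨b', rfl⟩ := key y hy
  have hb' : b' ≠ 0 := fun h => hy0 (by rw [h, zero_smul])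
  exact ⟨b / b', by rw [smul_smul, div_mul_cancel₀ b hb']⟩

theorem B_of_h {x y : V} (h : S.h x y = 0) : QuadraticMap.polar S.Q x y = 0 := by
  rw [← S.trace, h, map_zero]

theorem refl_split {κ η : K} (hη : Algebra.trace F K η ≠ 0)
    (hκη : Algebra.trace F K (κ * η) = 0)
    (hκ2 : Algebra.trace F K (κ ^ 2 * η) = Algebra.trace F K η)
    (hall : ∀ c, ∃ a b : F, c = a • (1 : K) + b • κ) {v : V} (hv : S.h v v = η) (x : V) :
    (S.refl v : Matrix ι ι F) *ᵥ x = x - ((S.Q v)⁻¹ * QuadraticMap.polar S.Q x v) • v -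
      ((S.Q v)⁻¹ * QuadraticMap.polar S.Q x (κ • v)) • κ • v := by
  have hQv : 2 * S.Q v = Algebra.trace F K η := by rw [S.Q_eq, hv]
  have hQv0 : S.Q v ≠ 0 := fun h0 => hη (by rw [← hQv, h0, mul_zero])
  have hη0 : η ≠ 0 := fun h0 => hη (by rw [h0, map_zero])
  obtain ⟨a, b, hab⟩ := hall (S.h x v / η)
  have hxv : S.h x v = a • η + b • (κ * η) := by
    rw [← div_mul_cancel₀ (S.h x v) hη0, hab, add_mul, smul_mul_assoc, one_mul, smul_mul_assoc]
  have h1 : (S.Q v)⁻¹ * QuadraticMap.polar S.Q x v = 2 * a := by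
    rw [← S.trace, hxv, map_add, map_smul, map_smul, hκη, ← hQv, smul_zero, add_zero, smul_eq_mul]
    field_simp
  have h2 : (S.Q v)⁻¹ * QuadraticMap.polar S.Q x (κ • v) = 2 * b := by
    rw [← S.trace, map_smul, hxv, smul_eq_mul, mul_add, mul_smul_comm, mul_smul_comm, map_add,
      map_smul, map_smul, hκη, ← mul_assoc κ κ η, ← pow_two, hκ2, ← hQv, smul_zero, zero_add,
      smul_eq_mul]
    field_simp
  rw [refl_mulVec, hv, h1, h2, sub_sub, div_mul_eq_mul_div, mul_div_assoc, hab]
  congr 1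
  simp only [← algebraMap_smul K (2 * a), ← algebraMap_smul K (2 * b), map_mul, map_ofNat,
    ← algebraMap_smul K a, ← algebraMap_smul K b, smul_smul, mul_add, add_smul, mul_one, smul_eq_mul]
  module

theorem orth2 {a b : V} (h : S.h a b = 0) :
    ∀ p q, p ≠ q → S.h (![a, b] p) (![a, b] q) = 0 := fun p q hpq => by
  fin_cases p <;> fin_cases q <;> first
    | exact absurd rfl hpq
    | exact h
    | exact (S.symm _ _).trans h

theorem orth3 {a b c : V} (h1 : S.h a b = 0) (h2 : S.h a c = 0) (h3 : S.h b c = 0) :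
    ∀ p q, p ≠ q → S.h (![a, b, c] p) (![a, b, c] q) = 0 := fun p q hpq => by
  fin_cases p <;> fin_cases q <;> first
    | exact absurd rfl hpq
    | exact h1
    | exact h2
    | exact h3
    | exact (S.symm _ _).trans h1
    | exact (S.symm _ _).trans h2
    | exact (S.symm _ _).trans h3

variable {M : Subgroup (GL ι F)}

/-- One Siegel element at a trace-zero non-singular centre gives all of them. -/
theorem full_of (hMS : M ≤ Cfsg.Geo.omegaGL S.Q)
    (hlin : ∀ g ∈ Cfsg.Geo.omegaGL S.Q,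
      (∀ (c : K) x, (g : Matrix ι ι F) *ᵥ (c • x) = c • (g : Matrix ι ι F) *ᵥ x) → g ∈ M)
    {y l : V} (hy : Algebra.trace F K (S.h y y) = 0) (hy0 : S.h y y ≠ 0)
    (hly : QuadraticMap.polar S.Q l y = 0) (hl : S.Q l ≠ 0) (hmem : sieg S.Q y l ∈ M) :
    Full S.Q M y := by
  have hQy : S.Q y = 0 := S.Q_zero_of hy
  have hb := S.hQ.polar_bilinear
  have hd := S.dim
  have hyy : QuadraticMap.polar S.Q y y = 0 := by rw [B_self S.hQ, hQy, mul_zero]
  let P : V → Prop := fun w => QuadraticMap.polar S.Q w y = 0 ∧ sieg S.Q y w ∈ M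
  have hzero : sieg S.Q y 0 = 1 := gl_ext fun x => by
    rw [sieg_mulVec S.hQ hQy (form_zero_left (bil S.hQ) _), Units.val_one, one_mulVec,
      zero_right S.hQ, Q_zero S.hQ]
    simp
  have hP0 : P 0 := ⟨form_zero_left (bil S.hQ) _, hzero ▸ M.one_mem⟩
  have hPadd : ∀ {v w}, P v → P w → P (v + w) := fun {v w} hv hw =>
    ⟨by rw [hb.add_left, hv.1, hw.1, add_zero],
      by rw [sieg_add_right S.hQ hQy hv.1 hw.1]; exact M.mul_mem hv.2 hw.2⟩
  have hPneg : ∀ {v}, P v → P (-v) := fun {v} hv => by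
    have h1 : QuadraticMap.polar S.Q (-v) y = 0 := by
      rw [← neg_one_smul F v, hb.smul_left, hv.1, mul_zero]
    refine ⟨h1, ?_⟩
    have h2 := sieg_add_right S.hQ hQy h1 hv.1
    rw [neg_add_cancel, hzero] at h2
    rw [eq_inv_of_mul_eq_one_left h2.symm]
    exact M.inv_mem hv.2
  have hPline : ∀ t : F, P (t • y) := fun t => by
    refine ⟨by rw [hb.smul_left, hyy, mul_zero], ?_⟩
    have : sieg S.Q y (t • y) = 1 := gl_ext fun x => by
      rw [sieg_mulVec S.hQ hQy (by rw [hb.smul_left, hyy, mul_zero]), Units.val_one, one_mulVec,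
        hb.smul_right, S.hQ.smul, hQy]
      module
    exact this ▸ M.one_mem
  have hPmove : ∀ {u w v : V}, P v → S.h u u = 0 → S.h u w = 0 → S.h w w ≠ 0 → S.h y u = 0 →
      S.h y w = 0 → P (S.h v u • w - (S.h v w + S.h w w / 2 * S.h v u) • u) := by
    intro u w v hv hu huw hw hyu hyw
    have hn : S.eich u w ∈ M := hlin _ (S.eich_mem_omega u w) (S.eich_lin u w)
    have hfix : (S.eich u w : Matrix ι ι F) *ᵥ y = y := by
      rw [S.eich_mulVec hu huw hw, hyu, hyw]; simp
    have hiso := omega_isometry S.hQ (S.eich_mem_omega u w)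
    have h1 : P ((S.eich u w : Matrix ι ι F) *ᵥ v) := by
      have h2 : QuadraticMap.polar S.Q ((S.eich u w : Matrix ι ι F) *ᵥ v) y = 0 := by
        conv_lhs => rw [← hfix]
        rw [B_map hiso, hv.1]
      refine ⟨h2, ?_⟩
      have h3 := M.mul_mem (M.mul_mem hn hv.2) (M.inv_mem hn)
      rwa [conj_sieg S.hQ hiso hQy hv.1, hfix] at h3
    have h4 := hPadd h1 (hPneg hv)
    rw [S.eich_mulVec hu huw hw] at h4
    convert h4 using 1
    abel
  -- the component of `l` orthogonal to `y`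
  obtain ⟨c, hc⟩ := S.exists_ratio (x := S.h l y) (by rw [S.trace, hly]) hy hy0
  set l0 := l + (-c) • y with hl0def
  have hPl0 : P l0 := hPadd ⟨hly, hmem⟩ (hPline _)
  have hl0y : S.h l0 y = 0 := by
    rw [hl0def, ← algebraMap_smul K (-c), map_add, map_smul, LinearMap.add_apply,
      LinearMap.smul_apply, hc, smul_eq_mul, map_neg, Algebra.smul_def]
    ring
  have hQl0 : S.Q l0 = S.Q l := by rw [hl0def, Q_add_smul S.hQ, hQy, hly]; ring
  set H := S.h l0 l0 with hH
  have hH0 : H ≠ 0 := S.ne_zero_of_Q (hQl0 ▸ hl)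
  have hyl0 : S.h y l0 = 0 := (S.symm y l0).trans hl0y
  -- singular vectors orthogonal to `y` and `l0`
  have hsing : ∀ u, S.h u u = 0 → S.h u y = 0 → S.h u l0 = 0 → ∀ e : K, P (e • u) := by
    intro u hu huy hul e
    rcases eq_or_ne e 0 with rfl | he
    · rw [zero_smul]; exact hP0
    set c := -(e / H) with hc
    have hc0 : c ≠ 0 := neg_ne_zero.2 (div_ne_zero he hH0)
    have h := hPmove (u := u) (w := c • l0) hPl0 hu
      (by rw [map_smul, hul, smul_zero])
      (by rw [S.h_smul_self]; exact mul_ne_zero (pow_ne_zero 2 hc0) hH0)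
      ((S.symm y u).trans huy) (by rw [map_smul, hyl0, smul_zero])
    rw [map_smul, smul_eq_mul, ← hH, (S.symm l0 u).trans hul, mul_zero, zero_smul, add_zero,
      zero_sub, ← neg_smul] at h
    have h5 : -(c * H) = e := by rw [hc]; field_simp
    rwa [h5] at h
  -- everything orthogonal to `y` and `l0`
  have hperp : ∀ z, S.h z y = 0 → S.h z l0 = 0 → P z := by
    intro z hzy hzl
    by_cases hz : S.h z z = 0
    · simpa using hsing z hz hzy hzl 1
    obtain ⟨u, hu1, -, hu⟩ := S.exists_value ![y, l0, z] (![] : Fin 0 → V)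
      (S.orth3 hyl0 ((S.symm y z).trans hzy) ((S.symm l0 z).trans hzl))
      (fun p => by fin_cases p <;> assumption) (by omega) z 0
    have huy : S.h u y = 0 := (hu1 0).trans hzy
    have hul : S.h u l0 = 0 := (hu1 1).trans hzl
    have huz : S.h u z = S.h z z := hu1 2
    set u' := (2 : K) • z - u with hu'
    have hu'0 : S.h u' u' = 0 := by
      simp only [hu', map_sub, map_smul, LinearMap.sub_apply, LinearMap.smul_apply, smul_eq_mul, hu,
        huz, S.symm z u]
      ring
    have h1 := hsing u hu huy hul (1 / 2)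
    have h2 := hsing u' hu'0 (by simp [hu', hzy, huy]) (by simp [hu', hzl, hul]) (1 / 2)
    have h3 := hPadd h1 h2
    convert h3 using 1
    have := S.twoK
    rw [hu', smul_sub, smul_smul, one_div_mul_cancel this, one_smul]
    abel
  -- one singular vector not orthogonal to `l0`
  obtain ⟨u, hu1, -, hu⟩ := S.exists_value ![y, l0] (![] : Fin 0 → V)
    (S.orth2 hyl0)
    (fun p => by fin_cases p <;> assumption) (by omega) l0 0
  have huy : S.h u y = 0 := (hu1 0).trans hl0y
  have hul : S.h u l0 = H := hu1 1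
  set x := u - l0 with hx
  have hxy : S.h x y = 0 := by simp [hx, huy, hl0y]
  have hxl : S.h x l0 = 0 := by rw [hx, map_sub, LinearMap.sub_apply, hul, sub_self]
  have hxx : S.h x x = -H := by
    simp only [hx, map_sub, LinearMap.sub_apply, hu, hul, S.symm l0 u, ← hH]; ring
  obtain ⟨w, hw1, -, hw⟩ := S.exists_value ![y, l0, x] (![] : Fin 0 → V)
    (S.orth3 hyl0 ((S.symm y x).trans hxy) ((S.symm l0 x).trans hxl))
    (fun p => by
      fin_cases p
      · exact hy0
      · exact hH0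
      · show S.h x x ≠ 0
        rw [hxx]; exact neg_ne_zero.2 hH0) (by omega) 0 1
  have hwy : S.h w y = 0 := (hw1 0).trans (by simp)
  have hwl : S.h w l0 = 0 := (hw1 1).trans (by simp)
  have hwx : S.h w x = 0 := (hw1 2).trans (by simp)
  have huw : S.h u w = 0 := by
    rw [show u = x + l0 by rw [hx]; abel, map_add, LinearMap.add_apply, S.symm x w, S.symm l0 w,
      hwx, hwl, add_zero]
  have hPu : ∀ e : K, P (e • u) := by
    have hsq : ∀ c : K, P ((c ^ 2 * (H / 2)) • u) := by
      intro c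
      rcases eq_or_ne c 0 with rfl | hc0
      · simpa using hP0
      have h := hPmove (u := u) (w := c • w) hPl0 hu (by rw [map_smul, huw, smul_zero])
        (by rw [S.h_smul_self, hw, mul_one]; exact pow_ne_zero 2 hc0)
        ((S.symm y u).trans huy) (by rw [map_smul, S.symm y w, hwy, smul_zero])
      rw [map_smul, S.symm l0 w, hwl, smul_zero, zero_add, S.h_smul_self, hw, mul_one,
        S.symm l0 u, hul, smul_smul] at h
      have h2 := hperp ((H * c) • w) (by simp [hwy]) (by simp [hwl])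
      have h3 := hPneg (hPadd h (hPneg h2))
      convert h3 using 1
      rw [div_mul_eq_mul_div, mul_div_assoc]
      abel
    intro e
    have h := hPadd (hPadd (hsq (e / H + 1)) (hPneg (hsq (e / H)))) (hPneg (hsq 1))
    convert h using 1
    rw [← neg_smul, ← neg_smul, ← add_smul, ← add_smul]
    congr 1
    have := S.twoK
    field_simp
    ring
  refine ⟨hQy, fun z hz => ?_⟩
  obtain ⟨t, ht⟩ := S.exists_ratio (x := S.h z y) (by rw [S.trace, hz]) hy hy0
  set z0 := z + (-t) • y with hz0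
  have hz0y : S.h z0 y = 0 := by
    rw [hz0, ← algebraMap_smul K (-t), map_add, map_smul, LinearMap.add_apply,
      LinearMap.smul_apply, ht, smul_eq_mul, map_neg, Algebra.smul_def]
    ring
  set p := S.h z0 l0 / H with hp
  have hz1 : P (z0 - p • l0) := hperp _ (by simp [hz0y, hl0y])
    (by rw [map_sub, map_smul, LinearMap.sub_apply, LinearMap.smul_apply, ← hH, smul_eq_mul, hp,
      div_mul_cancel₀ _ hH0, sub_self])
  have hz2 : P (p • l0) := by
    have h := hPadd (hPu p) (hperp ((-p) • x) (by simp [hxy]) (by simp [hxl]))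
    convert h using 1
    rw [hx]; module
  have h := hPadd (hPadd hz1 hz2) (hPline t)
  have e : z0 - p • l0 + p • l0 + t • y = z := by rw [hz0]; module
  rw [e] at h
  exact h.2

/-- A non-semilinear element supplies one long root centre. -/
theorem exists_full (hMS : M ≤ Cfsg.Geo.omegaGL S.Q)
    (hlin : ∀ g ∈ Cfsg.Geo.omegaGL S.Q,
      (∀ (c : K) x, (g : Matrix ι ι F) *ᵥ (c • x) = c • (g : Matrix ι ι F) *ᵥ x) → g ∈ M)
    {g : GL ι F} (hgM : g ∈ M) (hns : ¬ Semi K g) :
    ∃ y, Algebra.trace F K (S.h y y) = 0 ∧ S.h y y ≠ 0 ∧ Full S.Q M y := by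
  have hb := S.hQ.polar_bilinear
  have hd := S.dim
  obtain ⟨θ, htr, hθ, -, -⟩ := S.exists_theta
  have hθ0 : θ ≠ 0 := fun h => hθ ⟨0, by rw [h, map_zero]⟩
  obtain ⟨κ, η, hη, hκη, hκ2, hall⟩ := S.exists_kappa
  have hη0 : η ≠ 0 := fun h0 => hη (by rw [h0, map_zero])
  obtain ⟨v, hv, hvl⟩ : ∃ v, S.h v v = η ∧ ∀ e : K,
      (g : Matrix ι ι F) *ᵥ (κ • v) ≠ e • (g : Matrix ι ι F) *ᵥ v := by
    by_contra h
    push Not at h
    exact hns (S.semi_of_lines hη0 hall g h)
  have hiso := omega_isometry S.hQ (hMS hgM)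
  have hQv : 2 * S.Q v = Algebra.trace F K η := by rw [S.Q_eq, hv]
  set q := S.Q v with hq
  have hq0 : q ≠ 0 := fun h0 => hη (by rw [← hQv, h0, mul_zero])
  have hQk : S.Q (κ • v) = q := mul_left_cancel₀ S.two (by rw [S.Q_eq, h_smul_self, hv, hκ2, hQv])
  have hBvk : QuadraticMap.polar S.Q v (κ • v) = 0 := by
    rw [← S.trace, map_smul, hv, smul_eq_mul, hκη]
  set a := (g : Matrix ι ι F) *ᵥ v with ha
  set l := (g : Matrix ι ι F) *ᵥ (κ • v) with hl
  have hQa : S.Q a = q := hiso v
  have hQl : S.Q l = q := (hiso _).trans hQk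
  have hal : QuadraticMap.polar S.Q a l = 0 := by rw [ha, hl, B_map hiso, hBvk]
  set s := g * S.refl v * g⁻¹ with hs
  have hsM : s ∈ M := M.mul_mem (M.mul_mem hgM (hlin _ (S.refl_mem_omega hη hκη hκ2 hall hv)
    (S.refl_lin v))) (M.inv_mem hgM)
  have hs' : ∀ x, (s : Matrix ι ι F) *ᵥ x = x - (q⁻¹ * QuadraticMap.polar S.Q x a) • a -
      (q⁻¹ * QuadraticMap.polar S.Q x l) • l := fun x => by
    have key : ∀ t, QuadraticMap.polar S.Q (((g⁻¹ : GL ι F) : Matrix ι ι F) *ᵥ x) t =
        QuadraticMap.polar S.Q x ((g : Matrix ι ι F) *ᵥ t) := fun t => by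
      rw [← B_map hiso (((g⁻¹ : GL ι F) : Matrix ι ι F) *ᵥ x) t, gl_mulVec_inv]
    rw [hs, gl_mul_mulVec, gl_mul_mulVec, S.refl_split hη hκη hκ2 hall hv, key, key, mulVec_sub,
      mulVec_sub, mulVec_smul, mulVec_smul, gl_mulVec_inv]
  -- move `l` inside the stabiliser of `a`
  set A := S.h a a with hA
  have hA0 : A ≠ 0 := S.ne_zero_of_Q (hQa ▸ hq0)
  set k := S.h l a / A with hk
  set m := l - k • a with hm
  have hma : S.h m a = 0 := by
    rw [hm, map_sub, map_smul, LinearMap.sub_apply, LinearMap.smul_apply, ← hA, smul_eq_mul, hk,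
      div_mul_cancel₀ _ hA0, sub_self]
  have hm' : ∀ e : K, m ≠ e • a := by
    intro e he
    exact hvl (e + k) (show l = (e + k) • a by rw [add_smul, ← he, hm, sub_add_cancel])
  obtain ⟨u, hua, hum, hu⟩ := S.exists_pair hA0 hm' 0 1 0
  set e := m - (S.h m m / 2) • u with he
  have hue : S.h u e = 1 := by rw [he, map_sub, map_smul, hum, hu, smul_zero, sub_zero]
  have hea : S.h e a = 0 := by
    rw [he, map_sub, map_smul, LinearMap.sub_apply, LinearMap.smul_apply, hma, hua, smul_zero,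
      sub_zero]
  have hee : S.h e e = 0 := by
    have := S.twoK
    simp only [he, map_sub, map_smul, LinearMap.sub_apply, LinearMap.smul_apply, smul_eq_mul, hu,
      hum, S.symm m u]
    field_simp; ring
  have heu : S.h e u = 1 := (S.symm e u).trans hue
  have hp1 : S.h (u + e) (u + e) = 2 := by rw [h_add_self, hu, hue, hee]; ring
  have hp2 : S.h (u - e) (u - e) = -2 := by
    simp only [map_sub, LinearMap.sub_apply, hu, hue, hee, heu]; ring
  have h2 := S.twoK
  obtain ⟨w, hw1, -, hw⟩ := S.exists_value ![a, u + e, u - e] (![] : Fin 0 → V)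
    (S.orth3
      (by rw [map_add, S.symm a u, hua, S.symm a e, hea, add_zero])
      (by rw [map_sub, S.symm a u, hua, S.symm a e, hea, sub_zero])
      (by simp only [map_add, map_sub, LinearMap.add_apply, hu, hue, heu, hee]; ring))
    (fun p => by
      fin_cases p
      · exact hA0
      · show S.h (u + e) (u + e) ≠ 0
        rw [hp1]; exact h2
      · show S.h (u - e) (u - e) ≠ 0
        rw [hp2]; exact neg_ne_zero.2 h2) (by omega) 0 (-(2 * θ))
  have hwa : S.h w a = 0 := (hw1 0).trans (by simp)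
  have hw12 : S.h w u + S.h w e = 0 ∧ S.h w u - S.h w e = 0 := by
    have h3 := (hw1 1).trans (by simp : S.h (0 : V) _ = 0)
    have h4 := (hw1 2).trans (by simp : S.h (0 : V) _ = 0)
    exact ⟨(map_add (S.h w) u e).symm.trans h3, (map_sub (S.h w) u e).symm.trans h4⟩
  have hwu : S.h w u = 0 := by
    have : (2 : K) * S.h w u = 0 := by linear_combination hw12.1 + hw12.2
    exact (mul_eq_zero.1 this).resolve_left h2
  have hwe : S.h w e = 0 := by linear_combination hw12.1 - hwu
  have hwm : S.h w m = 0 := by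
    rw [show m = e + (S.h m m / 2) • u by rw [he, sub_add_cancel], map_add, map_smul, hwe, hwu,
      smul_zero, add_zero]
  have huw : S.h u w = 0 := (S.symm u w).trans hwu
  have hww : S.h w w ≠ 0 := by rw [hw]; exact neg_ne_zero.2 (mul_ne_zero h2 hθ0)
  set n := S.eich u w with hn
  have hnM : n ∈ M := hlin _ (S.eich_mem_omega u w) (S.eich_lin u w)
  have hlla : l = m + k • a := by rw [hm, sub_add_cancel]
  have hlu : S.h l u = 1 := by
    rw [hlla, map_add, map_smul, LinearMap.add_apply, LinearMap.smul_apply, S.symm m u, hum,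
      S.symm a u, hua, smul_zero, add_zero]
  have hlw : S.h l w = 0 := by
    rw [hlla, map_add, map_smul, LinearMap.add_apply, LinearMap.smul_apply, S.symm m w, hwm,
      S.symm a w, hwa, smul_zero, add_zero]
  set y := w + θ • u with hy
  have hna : (n : Matrix ι ι F) *ᵥ a = a := by
    rw [hn, S.eich_mulVec hu huw hww, S.symm a u, hua, S.symm a w, hwa]; simp
  have hnl : (n : Matrix ι ι F) *ᵥ l = l + y := by
    rw [hn, S.eich_mulVec hu huw hww, hlu, hlw, hw, hy, one_smul, zero_add, mul_one,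
      show -(2 * θ) / 2 = -θ by field_simp, neg_smul]
    abel
  have hyy : S.h y y = -(2 * θ) := by
    rw [hy, h_add_self, map_smul, hwu, h_smul_self, hu, hw]; simp
  have hyy0 : S.h y y ≠ 0 := by rw [hyy]; exact neg_ne_zero.2 (mul_ne_zero h2 hθ0)
  have htry : Algebra.trace F K (S.h y y) = 0 := by
    rw [hyy, two_mul, map_neg, map_add, htr, add_zero, neg_zero]
  have hQy : S.Q y = 0 := S.Q_zero_of htry
  have hay : QuadraticMap.polar S.Q a y = 0 := S.B_of_h (by
    rw [hy, map_add, map_smul, S.symm a w, hwa, S.symm a u, hua, smul_zero, add_zero])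
  have hly : QuadraticMap.polar S.Q l y = 0 := by
    rw [← S.trace, hy, map_add, map_smul, hlw, hlu, smul_eq_mul, mul_one, zero_add, htr]
  have hisoN := omega_isometry S.hQ (S.eich_mem_omega u w)
  set s' := n * s * n⁻¹ with hs2
  have hs'' : ∀ x, (s' : Matrix ι ι F) *ᵥ x = x - (q⁻¹ * QuadraticMap.polar S.Q x a) • a -
      (q⁻¹ * QuadraticMap.polar S.Q x (l + y)) • (l + y) := fun x => by
    have key : ∀ t, QuadraticMap.polar S.Q (((n⁻¹ : GL ι F) : Matrix ι ι F) *ᵥ x) t =
        QuadraticMap.polar S.Q x ((n : Matrix ι ι F) *ᵥ t) := fun t => by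
      rw [← B_map hisoN (((n⁻¹ : GL ι F) : Matrix ι ι F) *ᵥ x) t, gl_mulVec_inv]
    rw [hs2, gl_mul_mulVec, gl_mul_mulVec, hs', key, key, mulVec_sub, mulVec_sub, mulVec_smul,
      mulVec_smul, gl_mulVec_inv, hna, hnl]
  have hwy : QuadraticMap.polar S.Q (q⁻¹ • l) y = 0 := by rw [hb.smul_left, hly, mul_zero]
  have heq : s * s' = sieg S.Q y (q⁻¹ • l) := gl_ext fun x => by
    rw [gl_mul_mulVec, hs'', hs', sieg_mulVec S.hQ hQy hwy, S.hQ.smul, hb.smul_right, hQl]
    simp only [form_sub_left (bil S.hQ), hb.smul_left, hb.add_left, hb.add_right,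
      B_self S.hQ, hQa, hQl, hal, B_comm l a, B_comm y a, hay, hly, B_comm y l]
    have hA : (algebraMap F K q) ≠ 0 := (_root_.map_ne_zero _).2 hq0
    match_scalars <;> (try simp only [map_ofNat]) <;> field_simp <;> ring
  refine ⟨y, htry, hyy0, S.full_of hMS hlin htry hyy0 hwy ?_ (heq ▸ M.mul_mem hsM
    (M.mul_mem (M.mul_mem hnM hsM) (M.inv_mem hnM)))⟩
  rw [S.hQ.smul, hQl]
  exact mul_ne_zero (pow_ne_zero 2 (inv_ne_zero hq0)) hq0

/-- An overgroup with a non-semilinear element is `Ω`. -/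
theorem omega_le_of_not_semi (hMS : M ≤ Cfsg.Geo.omegaGL S.Q)
    (hlin : ∀ g ∈ Cfsg.Geo.omegaGL S.Q,
      (∀ (c : K) x, (g : Matrix ι ι F) *ᵥ (c • x) = c • (g : Matrix ι ι F) *ᵥ x) → g ∈ M)
    {g : GL ι F} (hgM : g ∈ M) (hns : ¬ Semi K g) : Cfsg.Geo.omegaGL S.Q ≤ M := by
  have hb := S.hQ.polar_bilinear
  have hd := S.dim
  have hn5 : 5 ≤ Fintype.card ι := by have := S.card_ge; omega
  obtain ⟨y, hytr, hy0, hy⟩ := S.exists_full hMS hlin hgM hns
  set H := S.h y y with hH
  -- a second centre, not orthogonal to the first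
  obtain ⟨u, hu1, -, hu⟩ := S.exists_value ![y] (![] : Fin 0 → V)
    (fun p r h => absurd (Subsingleton.elim p r) h) (fun p => by fin_cases p; exact hy0)
    (by omega) (H⁻¹ • y) 0
  have huy : S.h u y = 1 := (hu1 0).trans (by
    show S.h (H⁻¹ • y) y = 1
    rw [map_smul, LinearMap.smul_apply, ← hH, smul_eq_mul, inv_mul_cancel₀ hy0])
  set x := u - H⁻¹ • y with hx
  have hxy : S.h x y = 0 := by
    rw [hx, map_sub, map_smul, LinearMap.sub_apply, LinearMap.smul_apply, huy, ← hH, smul_eq_mul,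
      inv_mul_cancel₀ hy0, sub_self]
  have hxx : S.h x x = -H⁻¹ := by
    simp only [hx, map_sub, map_smul, LinearMap.sub_apply, LinearMap.smul_apply, smul_eq_mul, hu,
      huy, S.symm y u, ← hH]
    field_simp; ring
  obtain ⟨w, hw1, -, hw⟩ := S.exists_value ![y, x] (![] : Fin 0 → V)
    (fun p r h => by fin_cases p <;> fin_cases r <;> simp_all [S.symm y x])
    (fun p => by
      fin_cases p
      · exact hy0
      · show S.h x x ≠ 0
        rw [hxx]; exact neg_ne_zero.2 (inv_ne_zero hy0)) (by omega) 0 2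
  have hwy : S.h w y = 0 := (hw1 0).trans (by simp)
  have hwx : S.h w x = 0 := (hw1 1).trans (by simp)
  have huw : S.h u w = 0 := by
    rw [show u = x + H⁻¹ • y by rw [hx, sub_add_cancel], map_add, map_smul, LinearMap.add_apply,
      LinearMap.smul_apply, S.symm x w, hwx, S.symm y w, hwy, smul_zero, add_zero]
  have hww : S.h w w ≠ 0 := by rw [hw]; exact S.twoK
  set n := S.eich u w with hn
  have hnM : n ∈ M := hlin _ (S.eich_mem_omega u w) (S.eich_lin u w)
  set y' := (n : Matrix ι ι F) *ᵥ y with hy'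
  have hy'F : Full S.Q M y' :=
    full_conj S.hQ hy hnM (omega_isometry S.hQ (S.eich_mem_omega u w))
  have hy'y : QuadraticMap.polar S.Q y' y = -2 := by
    have h2 := S.twoK
    rw [← S.trace, hy', hn, S.eich_mulVec hu huw hww, S.symm y w, hwy, S.symm y u, huy, hw]
    simp only [map_add, map_sub, map_smul, LinearMap.add_apply, LinearMap.sub_apply,
      LinearMap.smul_apply, smul_eq_mul, hwy, huy, ← hH]
    rw [mul_zero, map_zero, show (0 + 2 / 2 * 1) * 1 = (1 : K) by field_simp; ring, hytr,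
      ← map_one (algebraMap F K), Algebra.trace_algebraMap, S.degree, two_nsmul]
    ring
  have hmove : ∀ p r z, Full S.Q M p → Full S.Q M r → S.Q z = 0 →
      QuadraticMap.polar S.Q r p ≠ 0 → QuadraticMap.polar S.Q z p ≠ 0 → Full S.Q M z := by
    intro p r z hp hr hz hrp hzp
    have h := full_move S.hQ hp (full_smul S.hQ hr (QuadraticMap.polar S.Q r p)⁻¹)
      (z := (QuadraticMap.polar S.Q z p)⁻¹ • z) (by rw [S.hQ.smul, hz, mul_zero])
      (by rw [hb.smul_left, inv_mul_cancel₀ hrp]) (by rw [hb.smul_left, inv_mul_cancel₀ hzp])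
    have h' := full_smul S.hQ h (QuadraticMap.polar S.Q z p)
    rwa [smul_inv_smul₀ hzp] at h'
  have hyp : QuadraticMap.polar S.Q y' y ≠ 0 := by rw [hy'y]; exact neg_ne_zero.2 S.two
  have hyp' : QuadraticMap.polar S.Q y y' ≠ 0 := by rwa [B_comm]
  refine omega_le_of_full S.hQ hn5 fun z hz => ?_
  rcases eq_or_ne z 0 with rfl | hz0
  · simpa using full_smul S.hQ hy 0
  by_cases hzy : QuadraticMap.polar S.Q z y = 0
  swap
  · exact hmove y y' z hy hy'F hz hyp hzy
  by_cases hzy' : QuadraticMap.polar S.Q z y' = 0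
  swap
  · exact hmove y' y z hy'F hy hz hyp' hzy'
  have hyy : QuadraticMap.polar S.Q y y = 0 := by rw [B_self S.hQ, hy.1, mul_zero]
  have hyy' : QuadraticMap.polar S.Q y' y' = 0 := by rw [B_self S.hQ, hy'F.1, mul_zero]
  obtain ⟨t, ht, htz⟩ := dual S.hQ (S := Submodule.span F {y, y'}) (z := z) fun hm => by
    obtain ⟨p, r, hpr⟩ := Submodule.mem_span_pair.mp hm
    rw [← hpr, hb.add_left, hb.smul_left, hb.smul_left, hyy, mul_zero, zero_add] at hzy
    rw [← hpr, hb.add_left, hb.smul_left, hb.smul_left, hyy', mul_zero, add_zero] at hzy'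
    rw [(mul_eq_zero.1 hzy).resolve_right hyp, (mul_eq_zero.1 hzy').resolve_right hyp'] at hpr
    exact hz0 (by simpa using hpr.symm)
  set z1 := t + y' + (-S.Q (t + y') / QuadraticMap.polar S.Q y' y) • y with hz1
  have hty : QuadraticMap.polar S.Q t y = 0 := ht y (Submodule.subset_span (by simp))
  have h1y : QuadraticMap.polar S.Q z1 y = QuadraticMap.polar S.Q y' y := by
    rw [hz1, hb.add_left, hb.add_left, hb.smul_left, hty, hyy]; ring
  have h1z : QuadraticMap.polar S.Q z1 z = 1 := by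
    rw [hz1, hb.add_left, hb.add_left, hb.smul_left, htz, B_comm y' z, hzy', B_comm y z, hzy]; ring
  have h1Q : S.Q z1 = 0 := by
    rw [hz1, Q_add_smul S.hQ, hy.1, hb.add_left, hty]
    field_simp; ring
  have hz1F : Full S.Q M z1 := hmove y y' z1 hy hy'F h1Q hyp (by rw [h1y]; exact hyp)
  exact hmove z1 y z hz1F hy hz (by rw [B_comm, h1y]; exact hyp)
    (by rw [B_comm, h1z]; exact one_ne_zero)

/-- `Ω` has elements which are not semilinear. -/
theorem exists_not_semi : ∃ g ∈ Cfsg.Geo.omegaGL S.Q, ¬ Semi K g := by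
  have hd := S.dim
  have hn5 : 5 ≤ Fintype.card ι := by have := S.card_ge; omega
  obtain ⟨θ, htr, hθ, -, -⟩ := S.exists_theta
  have hθ0 : θ ≠ 0 := fun h => hθ ⟨0, by rw [h, map_zero]⟩
  obtain ⟨e, -, -, he⟩ := S.exists_value (![] : Fin 0 → V) (![] : Fin 0 → V) (fun p => p.elim0)
    (fun p => p.elim0) (by omega) 0 θ
  obtain ⟨w, hw1, -, hw⟩ := S.exists_value ![e] (![] : Fin 0 → V)
    (fun p r h => absurd (Subsingleton.elim p r) h)
    (fun p => by fin_cases p; show S.h e e ≠ 0; rw [he]; exact hθ0) (by omega) 0 1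
  have hwe : S.h w e = 0 := (hw1 0).trans (by simp)
  have hew : S.h e w = 0 := (S.symm e w).trans hwe
  obtain ⟨x, hx1, -, hx⟩ := S.exists_value ![e, w] (![] : Fin 0 → V)
    (fun p r h => by fin_cases p <;> fin_cases r <;> simp_all)
    (fun p => by
      fin_cases p
      · show S.h e e ≠ 0; rw [he]; exact hθ0
      · show S.h w w ≠ 0; rw [hw]; exact one_ne_zero) (by omega) 0 1
  have hxe : S.h x e = 0 := (hx1 0).trans (by simp)
  have hxw : S.h x w = 0 := (hx1 1).trans (by simp)
  have hx0 : x ≠ 0 := fun h => one_ne_zero (α := K) (by rw [← hx, h]; simp)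
  have hQe : S.Q e = 0 := S.Q_zero_of (by rw [he, htr])
  have hBwe : QuadraticMap.polar S.Q w e = 0 := S.B_of_h hwe
  have hQw : S.Q w = 1 := mul_left_cancel₀ S.two (by
    rw [S.Q_eq, hw, ← map_one (algebraMap F K), Algebra.trace_algebraMap, S.degree, two_nsmul,
      mul_one, one_add_one_eq_two])
  refine ⟨_, sieg_mem_omega S.hQ hn5 hQe hBwe, fun hsemi => ?_⟩
  obtain ⟨d, hd'⟩ := hsemi θ
  have hfix : ∀ z, S.h z e = 0 → S.h z w = 0 → (sieg S.Q e w : Matrix ι ι F) *ᵥ z = z := by
    intro z h1 h2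
    rw [sieg_mulVec S.hQ hQe hBwe, S.B_of_h h1, S.B_of_h h2]; simp
  have h1 := hd' x
  rw [hfix x hxe hxw, hfix _ (by simp [hxe]) (by simp [hxw])] at h1
  have hdθ : d = θ := (smul_left_injective K hx0 h1).symm
  have h2 := hd' w
  rw [sieg_mulVec S.hQ hQe hBwe, sieg_mulVec S.hQ hQe hBwe, hBwe, hdθ, B_self S.hQ w, hQw,
    show QuadraticMap.polar S.Q (θ • w) e = 0 from S.B_of_h (by simp [hwe]),
    show QuadraticMap.polar S.Q (θ • w) w = 0 by
      rw [← S.trace, map_smul, LinearMap.smul_apply, hw, smul_eq_mul, mul_one, htr]] at h2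
  simp only [zero_smul, add_zero, mul_zero, mul_one, sub_zero, neg_zero, smul_add, left_eq_add,
    smul_eq_zero, hθ0, false_or, neg_eq_zero, S.two] at h2
  exact hθ0 (by rw [← he, h2]; simp)

end Setting

end Cfsg.Agent.Lib.OrthExtTwo
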