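import Cfsg.Agent.Lib.OrthExtTwo.Basic

/-!
Vectors with prescribed values and products in a symmetric space over a finite field of odd order.
Owner: helper94.
-/

set_option autoImplicit false
set_option linter.unusedSectionVars false

namespace Cfsg.Agent.Lib.OrthExtTwo

open Matrix Module

variable {ι : Type} [Fintype ι] [DecidableEq ι] {F K : Type*} [Field F] [Field K] [Algebra F K]
  [Module K (ι → F)] [IsScalarTower F K (ι → F)] [Finite F] [Finite K]

local notation "V" => (ι → F)

namespace Setting

variable (S : Setting F K ι)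

/-- An anisotropic vector orthogonal to `j` orthogonal anisotropic vectors and `i` others. -/
theorem exists_aniso {j i : ℕ} (a : Fin j → V) (s : Fin i → V)
    (horth : ∀ p q, p ≠ q → S.h (a p) (a q) = 0) (hne : ∀ p, S.h (a p) (a p) ≠ 0)
    (hdim : 2 * i + j < finrank K V) :
    ∃ y, S.h y y ≠ 0 ∧ (∀ p, S.h y (a p) = 0) ∧ ∀ q, S.h y (s q) = 0 := by
  haveI : FiniteDimensional K V := Module.Finite.of_finite
  set W : Submodule K V := Submodule.span K (Set.range (Fin.append a s)) with hW
  set Z := S.h.orthogonal W with hZ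
  set U : Submodule K V := Submodule.span K (Set.range a) with hU
  have hmem : ∀ x ∈ Z, ∀ r, S.h x (Fin.append a s r) = 0 := fun x hx r => by
    rw [S.symm]
    exact (LinearMap.BilinForm.mem_orthogonal_iff.1 hx) _ (Submodule.subset_span ⟨r, rfl⟩)
  have hha : ∀ x ∈ Z, ∀ p, S.h x (a p) = 0 := fun x hx p => by
    simpa using hmem x hx (Fin.castAdd i p)
  by_contra hcon
  push Not at hcon
  have hiso : ∀ x ∈ Z, S.h x x = 0 := fun x hx => by
    by_contra h0
    obtain ⟨q, hq⟩ := hcon x h0 (hha x hx)
    exact hq (by simpa using hmem x hx (Fin.natAdd j q))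
  have hZZ : ∀ x ∈ Z, ∀ y ∈ Z, S.h x y = 0 := fun x hx y hy => by
    have h := hiso _ (Z.add_mem hx hy)
    rw [S.h_add_self, hiso x hx, hiso y hy, zero_add, add_zero] at h
    exact (mul_eq_zero.1 h).resolve_left S.twoK
  have hUZ : U ⊓ Z = ⊥ := by
    refine eq_bot_iff.2 fun x hx => ?_
    obtain ⟨c, rfl⟩ := (Submodule.mem_span_range_iff_exists_fun K).1 hx.1
    refine (Submodule.mem_bot K).2 (Finset.sum_eq_zero fun p _ => ?_)
    have h := hha _ hx.2 p
    simp only [map_sum, map_smul, LinearMap.sum_apply, LinearMap.smul_apply, smul_eq_mul] at h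
    rw [Finset.sum_eq_single p (fun q _ hq => by rw [horth q p hq, mul_zero])
      (fun hp => absurd (Finset.mem_univ p) hp)] at h
    rw [(mul_eq_zero.1 h).resolve_right (hne p), zero_smul]
  have hle : U ⊔ Z ≤ S.h.orthogonal Z := by
    refine sup_le ?_ fun x hx => ?_
    · refine Submodule.span_le.2 ?_
      rintro _ ⟨p, rfl⟩
      exact LinearMap.BilinForm.mem_orthogonal_iff.2 fun x hx => hha x hx p
    · exact LinearMap.BilinForm.mem_orthogonal_iff.2 fun y hy => hZZ y hy x hx
  have h1 := Submodule.finrank_sup_add_finrank_inf_eq U Z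
  rw [hUZ, finrank_bot, add_zero] at h1
  have h2 := Submodule.finrank_mono hle
  have h3 : finrank K Z = finrank K V - finrank K W :=
    LinearMap.BilinForm.finrank_orthogonal S.nondegenerate W
  have h4 : finrank K (S.h.orthogonal Z) = finrank K V - finrank K Z :=
    LinearMap.BilinForm.finrank_orthogonal S.nondegenerate Z
  have h5 : finrank K W ≤ j + i := le_trans (finrank_range_le_card _) (by simp)
  have h6 : finrank K U = j := by
    have hli : LinearIndependent K a := by
      rw [Fintype.linearIndependent_iff]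
      intro c hc p
      have h := congrArg (fun z => S.h z (a p)) hc
      simp only [map_sum, map_smul, LinearMap.sum_apply, LinearMap.smul_apply, smul_eq_mul,
        map_zero, LinearMap.zero_apply] at h
      rw [Finset.sum_eq_single p (fun q _ hq => by rw [horth q p hq, mul_zero])
        (fun hp => absurd (Finset.mem_univ p) hp)] at h
      exact (mul_eq_zero.1 h).resolve_right (hne p)
    rw [hU, finrank_span_eq_card hli, Fintype.card_fin]
  omega

/-- A vector with given products against the listed vectors and given value. -/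
theorem exists_value {j i : ℕ} (a : Fin j → V) (s : Fin i → V)
    (horth : ∀ p q, p ≠ q → S.h (a p) (a q) = 0) (hne : ∀ p, S.h (a p) (a p) ≠ 0)
    (hdim : 2 * i + j + 1 < finrank K V) (u0 : V) (γ : K) :
    ∃ u, (∀ p, S.h u (a p) = S.h u0 (a p)) ∧ (∀ q, S.h u (s q) = S.h u0 (s q)) ∧ S.h u u = γ := by
  obtain ⟨y, hy, hya, hys⟩ := S.exists_aniso a s horth hne (by omega)
  set a' : Fin (j + 1) → V := Fin.snoc a y with ha'
  have hne' : ∀ p, S.h (a' p) (a' p) ≠ 0 := by
    intro p
    induction p using Fin.lastCases with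
    | last => simpa [ha'] using hy
    | cast p => simpa [ha'] using hne p
  have horth' : ∀ p q, p ≠ q → S.h (a' p) (a' q) = 0 := by
    intro p q hpq
    induction p using Fin.lastCases with
    | last =>
      induction q using Fin.lastCases with
      | last => exact absurd rfl hpq
      | cast q => simpa [ha'] using hya q
    | cast p =>
      induction q using Fin.lastCases with
      | last => simpa [ha'] using (S.symm _ _).trans (hya p)
      | cast q => simpa [ha'] using horth p q (fun h => hpq (h ▸ rfl))
  obtain ⟨z, hz, hza, hzs⟩ := S.exists_aniso a' s horth' hne' (by omega)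
  have hzy : S.h z y = 0 := by simpa [ha'] using hza (Fin.last j)
  have hyz : S.h y z = 0 := (S.symm y z).trans hzy
  have hza' : ∀ p, S.h z (a p) = 0 := fun p => by simpa [ha'] using hza p.castSucc
  set u1 := u0 - (S.h u0 y / S.h y y) • y - (S.h u0 z / S.h z z) • z with hu1
  have h1y : S.h u1 y = 0 := by
    simp only [hu1, map_sub, map_smul, LinearMap.sub_apply, LinearMap.smul_apply, smul_eq_mul, hzy]
    field_simp; ring
  have h1z : S.h u1 z = 0 := by
    simp only [hu1, map_sub, map_smul, LinearMap.sub_apply, LinearMap.smul_apply, smul_eq_mul, hyz]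
    field_simp; ring
  obtain ⟨b, c, hbc⟩ : ∃ b c : K, S.h y y * b ^ 2 + S.h z z * c ^ 2 = γ - S.h u1 u1 := by
    have := Fintype.ofFinite K
    have hc : ringChar K ≠ 2 := fun e => S.twoK (by
      have : CharP K 2 := ringChar.eq_iff.mp e
      exact_mod_cast CharP.cast_eq_zero K 2)
    open Polynomial in
    obtain ⟨b, c, h⟩ := FiniteField.exists_root_sum_quadratic
      (f := C (S.h y y) * X ^ 2 + C 0 * X + C 0)
      (g := C (S.h z z) * X ^ 2 + C 0 * X + C (-(γ - S.h u1 u1)))
      (degree_quadratic hy) (degree_quadratic hz) (FiniteField.odd_card_of_char_ne_two hc)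
    refine ⟨b, c, ?_⟩
    simp at h
    linear_combination h
  refine ⟨u1 + b • y + c • z, fun p => ?_, fun q => ?_, ?_⟩
  · simp [hu1, hya, hza']
  · simp [hu1, hys, hzs]
  · simp only [map_add, map_smul, LinearMap.add_apply, LinearMap.smul_apply, smul_eq_mul, h1y, h1z,
      hyz, hzy, S.symm y u1, S.symm z u1]
    linear_combination hbc

/-- A vector with prescribed products against an anisotropic and one further vector, and value. -/
theorem exists_pair {v w : V} (hv : S.h v v ≠ 0) (hw : ∀ c : K, w ≠ c • v) (α β γ : K) :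
    ∃ u, S.h u v = α ∧ S.h u w = β ∧ S.h u u = γ := by
  set w' := w - (S.h w v / S.h v v) • v with hw'
  have hw'0 : w' ≠ 0 := fun h0 => hw _ (sub_eq_zero.1 h0)
  obtain ⟨z0, hz0⟩ : ∃ z, S.h z w' ≠ 0 := by
    by_contra h
    push Not at h
    exact hw'0 (S.nondeg w' fun y => by rw [S.symm, h])
  have hvw' : S.h v w' = 0 := by
    rw [hw', map_sub, map_smul, smul_eq_mul, S.symm v w]; field_simp; ring
  set z := (S.h z0 w')⁻¹ • (z0 - (S.h z0 v / S.h v v) • v) with hz
  have hzv : S.h z v = 0 := by
    simp only [hz, map_smul, map_sub, LinearMap.smul_apply, LinearMap.sub_apply, smul_eq_mul]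
    field_simp; ring
  have hzw : S.h z w' = 1 := by
    simp only [hz, map_smul, map_sub, LinearMap.smul_apply, LinearMap.sub_apply, smul_eq_mul, hvw',
      mul_zero, sub_zero]
    exact inv_mul_cancel₀ hz0
  set u0 := (α / S.h v v) • v + (β - S.h w v / S.h v v * α) • z with hu0
  have h0v : S.h u0 v = α := by
    simp only [hu0, map_add, map_smul, LinearMap.add_apply, LinearMap.smul_apply, smul_eq_mul, hzv]
    field_simp; ring
  have h0w : S.h u0 w = β := by
    have hww : w = w' + (S.h w v / S.h v v) • v := by rw [hw', sub_add_cancel]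
    have h0w' : S.h u0 w' = β - S.h w v / S.h v v * α := by
      simp only [hu0, map_add, map_smul, LinearMap.add_apply, LinearMap.smul_apply, smul_eq_mul,
        hzw, hvw']
      ring
    conv_lhs => rw [hww]
    rw [map_add, map_smul, h0w', h0v, smul_eq_mul]; ring
  obtain ⟨u, hu1, hu2, hu3⟩ := S.exists_value ![v] ![w]
    (fun p q h => absurd (Subsingleton.elim p q) h) (fun p => by fin_cases p; exact hv)
    (by have := S.dim; omega) u0 γ
  exact ⟨u, (hu1 0).trans h0v, (hu2 0).trans h0w, hu3⟩

end Setting

end Cfsg.Agent.Lib.OrthExtTwo
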